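import Mathlib
import Cfsg.Prelude.Def_CaseTheorems

/-!
Sectional 2-rank at most four is seen on a Sylow 2-subgroup, and holds for a 2-group with a cyclic subgroup of
index at most eight.
-/

set_option autoImplicit false

namespace Cfsg.Agent.SecRankFour

open Subgroup

variable {G : Type*} [Group G]

/-- every elementary abelian section of `P` has order at most 16 -/
def Good (P : Subgroup G) : Prop :=
  ∀ K N : Subgroup G, K ≤ P → N ≤ K → (∀ k ∈ K, ∀ n ∈ N, k * n * k⁻¹ ∈ N) → (∀ k ∈ K, k * k ∈ N) →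
    Nat.card K ≤ 16 * Nat.card N

theorem comm_mem {K N : Subgroup G} (hNK : N ≤ K) (hn : ∀ k ∈ K, ∀ n ∈ N, k * n * k⁻¹ ∈ N)
    (hsq : ∀ k ∈ K, k * k ∈ N) {a b : G} (ha : a ∈ K) (hb : b ∈ K) : a * b * a⁻¹ * b⁻¹ ∈ N := by
  have h1 := hsq (a * b) (mul_mem ha hb)
  have h2 := hn b⁻¹ (inv_mem hb) _ (inv_mem (hsq a ha))
  have h3 := hsq b⁻¹ (inv_mem hb)
  have h4 := mul_mem (mul_mem h1 h2) h3
  have key : a * b * a⁻¹ * b⁻¹ = a * b * (a * b) * (b⁻¹ * (a * a)⁻¹ * b⁻¹⁻¹) * (b⁻¹ * b⁻¹) := by group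
  rw [key]
  exact h4

theorem sectional_of_good [Finite G] (P : Sylow 2 G) (h : Good (P : Subgroup G)) :
    Cfsg.SectionalPRankLE 2 4 G := by
  intro H N _ A _ hA2
  have hAp : IsPGroup 2 ↥A := fun a => ⟨1, Subtype.ext (by simpa using hA2 a a.2)⟩
  let K₀ := A.comap (QuotientGroup.mk' N)
  let f : ↥K₀ →* ↥A := ((QuotientGroup.mk' N).comp K₀.subtype).codRestrict A fun x => x.2
  have hf : Function.Surjective f := fun a => by
    obtain ⟨y, hy⟩ := QuotientGroup.mk'_surjective N (a : ↥H ⧸ N)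
    exact ⟨⟨y, show QuotientGroup.mk' N y ∈ A by rw [hy]; exact a.2⟩, Subtype.ext hy⟩
  obtain ⟨Q⟩ : Nonempty (Sylow 2 ↥K₀) := inferInstance
  have hQA : (Q : Subgroup ↥K₀).map f = ⊤ := by
    have := (Q.mapSurjective hf).3 (Q := ⊤) (hAp.of_equiv topEquiv.symm) le_top
    simpa using this.symm
  let j : ↥K₀ →* G := H.subtype.comp K₀.subtype
  have hj : Function.Injective j := H.subtype_injective.comp K₀.subtype_injective
  obtain ⟨P', hP'⟩ := ((Q.2).map j).exists_le_sylow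
  obtain ⟨g, hg⟩ := MulAction.exists_smul_eq G P' P
  let jg : ↥K₀ →* G := (MulAut.conj g).toMonoidHom.comp j
  have hjg : Function.Injective jg := (MulAut.conj g).injective.comp hj
  have hKP : (Q : Subgroup ↥K₀).map jg ≤ (P : Subgroup G) := by
    rw [← hg, ← map_map]
    exact map_mono hP'
  have key := h ((Q : Subgroup ↥K₀).map jg) (((Q : Subgroup ↥K₀) ⊓ f.ker).map jg) hKP (map_mono inf_le_left)
    (by
      rintro _ ⟨k, hk, rfl⟩ _ ⟨n, hn, rfl⟩
      refine ⟨k * n * k⁻¹, ⟨(Q : Subgroup ↥K₀).mul_mem ((Q : Subgroup ↥K₀).mul_mem hk hn.1) ((Q : Subgroup ↥K₀).inv_mem hk), ?_⟩, by simp⟩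
      exact (MonoidHom.normal_ker f).conj_mem n hn.2 k)
    (by
      rintro _ ⟨k, hk, rfl⟩
      refine ⟨k * k, ⟨mul_mem hk hk, ?_⟩, by simp⟩
      show f (k * k) = 1
      rw [map_mul, ← pow_two]
      exact Subtype.ext (hA2 _ (f k).2))
  rw [card_map_of_injective hjg, card_map_of_injective hjg] at key
  let r := f.comp (Q : Subgroup ↥K₀).subtype
  have hr : Function.Surjective r := fun a => by
    obtain ⟨k, hk, rfl⟩ : a ∈ (Q : Subgroup ↥K₀).map f := by rw [hQA]; trivial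
    exact ⟨⟨k, hk⟩, rfl⟩
  have h1 := r.ker.card_mul_index
  have h2 : r.ker = (f.ker).subgroupOf (Q : Subgroup ↥K₀) := by ext x; rfl
  rw [index_ker, MonoidHom.range_eq_top.2 hr, card_top, h2, ← inf_subgroupOf_left,
    Nat.card_congr (subgroupOfEquivOfLe inf_le_left).toEquiv] at h1
  rw [← h1, mul_comm 16] at key
  simpa using Nat.le_of_mul_le_mul_left key Nat.card_pos

theorem good_of_cyclic [Finite G] {T : Subgroup G} {c : G} (hc : c ∈ T) (h8 : Nat.card T ≤ 8 * orderOf c) :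
    Good T := by
  intro K N hKT hNK _ hsq
  set C := zpowers c with hCdef
  have hCT : C ≤ T := zpowers_le.2 hc
  obtain ⟨d, hd⟩ : ∃ d : G, zpowers d = K ⊓ C := by
    have : IsCyclic ↥(K ⊓ C) :=
      isCyclic_of_injective (inclusion (inf_le_right : K ⊓ C ≤ C)) (inclusion_injective _)
    obtain ⟨d, hd⟩ := isCyclic_iff_exists_zpowers_eq_top.1 this
    refine ⟨(d : G), ?_⟩
    have := congrArg (Subgroup.map (K ⊓ C).subtype) hd
    rwa [MonoidHom.map_zpowers, ← MonoidHom.range_eq_map, range_subtype] at this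
  have hdK : d ∈ K := (hd ▸ mem_zpowers d : d ∈ K ⊓ C).1
  have hN2 : orderOf (d * d) ≤ Nat.card N := by
    rw [← Nat.card_zpowers]
    exact card_le_of_le (zpowers_le.2 (hsq d hdK))
  have hd2 : orderOf d ≤ 2 * orderOf (d * d) := by
    refine Nat.le_of_dvd (Nat.mul_pos two_pos (orderOf_pos _)) (orderOf_dvd_of_pow_eq_one ?_)
    rw [pow_mul, pow_two, pow_orderOf_eq_one]
  have hidx : C.relIndex T ≤ 8 := by
    have h1 : Nat.card ↥C * C.relIndex T = Nat.card T := by
      rw [← Nat.card_congr (subgroupOfEquivOfLe hCT).toEquiv]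
      exact (C.subgroupOf T).card_mul_index
    rw [hCdef, Nat.card_zpowers] at h1
    exact le_of_mul_le_mul_left (a := orderOf c) (by rw [hCdef, h1]; linarith) (orderOf_pos c)
  have hle : C.relIndex K ≤ 8 := le_trans (relIndex_le_of_le_right hKT index_ne_zero_of_finite) hidx
  have h1 : Nat.card ↥(K ⊓ C) * C.relIndex K = Nat.card K := by
    rw [← inf_relIndex_left, ← Nat.card_congr (subgroupOfEquivOfLe inf_le_left).toEquiv]
    exact ((K ⊓ C).subgroupOf K).card_mul_index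
  rw [← hd, Nat.card_zpowers] at h1
  rw [← h1]
  calc orderOf d * C.relIndex K ≤ 2 * Nat.card N * 8 := Nat.mul_le_mul (by omega) hle
    _ = 16 * Nat.card N := by ring

end Cfsg.Agent.SecRankFour
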