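import Cfsg.Agent.SecRankFour.Basic
import Cfsg.Agent.S4Free.Abelian
import Cfsg.Agent.Fusion.Alperin

/-!
A 2-group `P` with an elementary abelian subgroup `T` of order 16 and a four-subgroup `B ≤ T` whose involutions
have centraliser `T` in `P` has sectional rank at most four.
-/

set_option autoImplicit false

namespace Cfsg.Agent.SecRankFour

open Subgroup

variable {G : Type*} [Group G] [Finite G]

/-- the hypotheses of the Klein case -/
structure Kl (P T B : Subgroup G) : Prop where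
  pP : IsPGroup 2 P
  TP : T ≤ P
  cT : Nat.card T = 16
  sqT : ∀ t ∈ T, t * t = 1
  BT : B ≤ T
  cB : Nat.card B = 4
  cent : ∀ b ∈ B, b ≠ 1 → ∀ y ∈ P, y * b = b * y → y ∈ T

namespace Kl

variable {P T B : Subgroup G}

/-- the commutator map of an element normalising `T` -/
def T1 (P T : Subgroup G) : Subgroup G := P ⊓ normalizer (T : Set G)

theorem inv_eq (h : Kl P T B) {t : G} (ht : t ∈ T) : t⁻¹ = t := inv_eq_of_mul_eq_one_right (h.sqT t ht)

theorem commT (h : Kl P T B) {s t : G} (hs : s ∈ T) (ht : t ∈ T) : s * t = t * s := by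
  have := h.inv_eq (mul_mem hs ht)
  rw [mul_inv_rev, h.inv_eq hs, h.inv_eq ht] at this
  exact this.symm

theorem card_two_pow (h : Kl P T B) {S : Subgroup G} (hS : S ≤ P) : ∃ k, Nat.card S = 2 ^ k :=
  (h.pP.to_le hS).exists_card_eq

/-- a subgroup of `T` of order at least eight meets `B` -/
theorem meet (h : Kl P T B) {S : Subgroup G} (hST : S ≤ T) (h8 : 8 ≤ Nat.card S) : ∃ b ∈ B, b ∈ S ∧ b ≠ 1 := by
  by_contra hcon
  have hbot : S ⊓ B = ⊥ := (eq_bot_iff_forall _).2 fun x hx => by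
    by_contra hx1
    exact hcon ⟨x, hx.2, hx.1, hx1⟩
  have hn : B ≤ normalizer (S : Set G) := fun b hb => mem_normalizer_iff.2 fun s => by
    constructor
    · intro hs; rwa [h.commT (h.BT hb) (hST hs), mul_inv_cancel_right]
    · intro hs
      have h1 : b⁻¹ * (b * s * b⁻¹) * b = b * s * b⁻¹ := by
        rw [h.commT (T.inv_mem (h.BT hb)) (hST hs), inv_mul_cancel_right]
      have h2 : s = b * s * b⁻¹ := by
        refine Eq.trans ?_ h1
        group
      rw [h2]; exact hs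
  have h1 := SfFree.card_sup_mul hn
  rw [hbot, card_bot, h.cB, mul_one] at h1
  have h2 : Nat.card ↥(S ⊔ B) ≤ 16 := h.cT ▸ card_le_of_le (sup_le hST h.BT)
  omega

/-- self centralisation -/
theorem self (h : Kl P T B) {S : Subgroup G} (hST : S ≤ T) (h8 : 8 ≤ Nat.card S) {y : G} (hy : y ∈ P)
    (hc : ∀ s ∈ S, y * s = s * y) : y ∈ T := by
  obtain ⟨b, hbB, hbS, hb⟩ := h.meet hST h8
  exact h.cent b hbB hb y hy (hc b hbS)

theorem T_le_T1 (h : Kl P T B) : T ≤ T1 P T := le_inf h.TP le_normalizer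

theorem conj_mem (w t : G) (hw : w ∈ T1 P T) (ht : t ∈ T) : w * t * w⁻¹ ∈ T :=
  (mem_normalizer_iff.1 hw.2 t).1 ht

/-- `t ↦ [w,t]` -/
noncomputable def delta (h : Kl P T B) {w : G} (hw : w ∈ T1 P T) : ↥T →* G where
  toFun t := w * t * w⁻¹ * t
  map_one' := by simp
  map_mul' s t := by
    have h1 := h.commT s.2 (conj_mem w t hw t.2)
    calc w * ((s : G) * t) * w⁻¹ * ((s : G) * t) = w * s * w⁻¹ * ((w * t * w⁻¹) * s) * t := by group
      _ = w * s * w⁻¹ * (s * (w * t * w⁻¹)) * t := by rw [h1]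
      _ = _ := by group

theorem delta_apply (h : Kl P T B) {w : G} (hw : w ∈ T1 P T) (t : ↥T) :
    h.delta hw t = w * t * w⁻¹ * t := rfl

theorem range_le (h : Kl P T B) {w : G} (hw : w ∈ T1 P T) : (h.delta hw).range ≤ T := by
  rintro _ ⟨t, rfl⟩
  exact mul_mem (conj_mem w t hw t.2) t.2

/-- fixed points of `w` in `T` -/
def Fix (T : Subgroup G) (w : G) : Subgroup G := T ⊓ centralizer ({w} : Set G)

theorem mem_Fix {w t : G} : t ∈ Fix T w ↔ t ∈ T ∧ w * t = t * w := by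
  rw [Fix, mem_inf, mem_centralizer_singleton_iff]
  exact ⟨fun h => ⟨h.1, h.2.symm⟩, fun h => ⟨h.1, h.2.symm⟩⟩

theorem delta_eq_one (h : Kl P T B) {w : G} (hw : w ∈ T1 P T) (t : ↥T) :
    h.delta hw t = 1 ↔ (t : G) ∈ Fix T w := by
  rw [delta_apply, mem_Fix]
  constructor
  · intro e
    refine ⟨t.2, ?_⟩
    have := eq_inv_of_mul_eq_one_left e
    rw [h.inv_eq t.2] at this
    exact mul_inv_eq_iff_eq_mul.1 this
  · rintro ⟨-, e⟩
    rw [e, mul_inv_cancel_right, h.sqT _ t.2]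

theorem card_ker (h : Kl P T B) {w : G} (hw : w ∈ T1 P T) :
    Nat.card (h.delta hw).range * Nat.card ↥(Fix T w) = 16 := by
  have h1 := (h.delta hw).ker.card_mul_index
  have h2 : (h.delta hw).ker = (Fix T w).subgroupOf T := by
    ext t; rw [MonoidHom.mem_ker, h.delta_eq_one hw, mem_subgroupOf]
  rw [index_ker, h2, Nat.card_congr (subgroupOfEquivOfLe (show Fix T w ≤ T from inf_le_left)).toEquiv, h.cT] at h1
  rw [mul_comm]; exact h1

theorem fix_disjoint (h : Kl P T B) {w : G} (hw : w ∈ P) (hwT : w ∉ T) {b : G} (hb : b ∈ B) (hf : b ∈ Fix T w) :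
    b = 1 := by
  by_contra hb1
  exact hwT (h.cent b hb hb1 w hw (mem_Fix.1 hf).2)

theorem fix_card_le (h : Kl P T B) {w : G} (hw : w ∈ P) (hwT : w ∉ T) : Nat.card ↥(Fix T w) ≤ 4 := by
  obtain ⟨k, hk⟩ := h.card_two_pow (inf_le_left.trans h.TP : Fix T w ≤ P)
  replace hk : Nat.card ↥(Fix T w) = 2 ^ k := hk
  by_contra hlt
  have h8 : 8 ≤ Nat.card ↥(Fix T w) := by
    rw [hk] at hlt ⊢
    have : 3 ≤ k := by
      by_contra hk3
      have := Nat.pow_le_pow_right two_pos (show k ≤ 2 by omega)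
      omega
    exact le_trans (by norm_num) (Nat.pow_le_pow_right two_pos this)
  exact hwT (h.self inf_le_left h8 hw fun s hs => (mem_Fix.1 hs).2)

theorem range_card_ge (h : Kl P T B) {w : G} (hw : w ∈ T1 P T) (hwT : w ∉ T) :
    4 ≤ Nat.card (h.delta hw).range := by
  have h1 := h.card_ker hw
  have h2 := h.fix_card_le hw.1 hwT
  nlinarith

/-- an element whose square lies in `T` -/
theorem inv_fix (h : Kl P T B) {w : G} (hw : w ∈ T1 P T) (hwT : w ∉ T) (hw2 : w * w ∈ T) :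
    (h.delta hw).range = Fix T w ∧ Nat.card ↥(Fix T w) = 4 := by
  have hle : (h.delta hw).range ≤ Fix T w := by
    rintro _ ⟨t, rfl⟩
    refine mem_Fix.2 ⟨h.range_le hw ⟨t, rfl⟩, ?_⟩
    rw [delta_apply]
    have h1 : w * (w * t * w⁻¹) * w⁻¹ = t := by
      calc w * (w * t * w⁻¹) * w⁻¹ = (w * w) * t * (w * w)⁻¹ := by group
        _ = t := by rw [h.commT hw2 t.2, mul_inv_cancel_right]
    have h2 : w * (w * t * w⁻¹ * t) * w⁻¹ = w * t * w⁻¹ * t := by
      calc w * (w * t * w⁻¹ * t) * w⁻¹ = (w * (w * t * w⁻¹) * w⁻¹) * (w * t * w⁻¹) := by group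
        _ = t * (w * t * w⁻¹) := by rw [h1]
        _ = _ := h.commT t.2 (conj_mem w t hw t.2)
    exact mul_inv_eq_iff_eq_mul.1 h2
  have hf := h.fix_card_le hw.1 hwT
  have hr := h.range_card_ge hw hwT
  have h3 := card_le_of_le hle
  exact ⟨eq_of_le_of_card_ge hle (by omega), by omega⟩

/-- commutators of `K` lie in `N` -/
theorem delta_mem (h : Kl P T B) {K N : Subgroup G} (hNK : N ≤ K) (hn : ∀ k ∈ K, ∀ n ∈ N, k * n * k⁻¹ ∈ N)
    (hsq : ∀ k ∈ K, k * k ∈ N) {w t : G} (hw : w ∈ K) (htK : t ∈ K) (htT : t ∈ T) :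
    w * t * w⁻¹ * t ∈ N := by
  have := comm_mem hNK hn hsq hw htK
  rwa [h.inv_eq htT] at this

theorem card_T1_le (h : Kl P T B) : Nat.card ↥(T1 P T) ≤ 64 := by
  classical
  by_cases heq : T1 P T ≤ T
  · have := card_le_of_le heq; rw [h.cT] at this; omega
  haveI hTn : (T.subgroupOf (T1 P T)).Normal :=
    (normal_subgroupOf_iff_le_normalizer h.T_le_T1).2 inf_le_right
  set Tn := T.subgroupOf (T1 P T) with hTndef
  haveI : Tn.Normal := hTn
  have hQ : IsPGroup 2 (↥(T1 P T) ⧸ Tn) := (h.pP.to_le (inf_le_left : T1 P T ≤ P)).of_surjective (QuotientGroup.mk' Tn) (QuotientGroup.mk'_surjective Tn)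
  haveI : Nontrivial (↥(T1 P T) ⧸ Tn) := by
    obtain ⟨y, hy, hyT⟩ := SetLike.not_le_iff_exists.1 heq
    refine ⟨⟨QuotientGroup.mk (⟨y, hy⟩ : ↥(T1 P T)), 1, fun e => hyT ?_⟩⟩
    exact mem_subgroupOf.1 ((QuotientGroup.eq_one_iff _).1 e)
  obtain ⟨⟨c, hc⟩, hc2⟩ := exists_prime_orderOf_dvd_card' (G := ↥(center (↥(T1 P T) ⧸ Tn))) 2 (by
    haveI := hQ.center_nontrivial
    obtain ⟨k, hk⟩ := (hQ.to_subgroup (center _)).exists_card_eq
    rw [hk]
    refine dvd_pow_self 2 ?_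
    rintro rfl
    exact absurd hk (by have := Finite.one_lt_card (α := ↥(center (↥(T1 P T) ⧸ Tn))); omega))
  obtain ⟨⟨w, hw⟩, rfl⟩ := QuotientGroup.mk_surjective c
  rw [← orderOf_coe] at hc2
  change orderOf (QuotientGroup.mk (⟨w, hw⟩ : ↥(T1 P T)) : ↥(T1 P T) ⧸ Tn) = 2 at hc2
  have hwT : w ∉ T := fun hm => by
    rw [(QuotientGroup.eq_one_iff _).2 (mem_subgroupOf.2 hm), orderOf_one] at hc2
    omega
  have hw2 : w * w ∈ T := by
    have := pow_orderOf_eq_one (QuotientGroup.mk (⟨w, hw⟩ : ↥(T1 P T)) : ↥(T1 P T) ⧸ Tn)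
    rw [hc2, ← QuotientGroup.mk_pow, QuotientGroup.eq_one_iff, mem_subgroupOf, SubgroupClass.coe_pow, pow_two] at this
    exact this
  have hcomm : ∀ g ∈ T1 P T, w⁻¹ * (g⁻¹ * w * g) ∈ T := fun g hg => by
    have := mem_center_iff.1 hc (QuotientGroup.mk (⟨g, hg⟩ : ↥(T1 P T)))
    rw [← QuotientGroup.mk_mul, ← QuotientGroup.mk_mul, QuotientGroup.eq, mem_subgroupOf] at this
    have h2 := T.inv_mem this
    have e : w⁻¹ * (g⁻¹ * w * g) = ((((⟨g, hg⟩ * ⟨w, hw⟩ : ↥(T1 P T)))⁻¹ * (⟨w, hw⟩ * ⟨g, hg⟩) : ↥(T1 P T)) : G) := by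
      simp [mul_assoc]
    rw [e]; exact this
  obtain ⟨hrF, hcF⟩ := h.inv_fix hw hwT hw2
  set F := Fix T w
  have hFn : ∀ g ∈ T1 P T, ∀ t ∈ F, g * t * g⁻¹ ∈ F := by
    intro g hg t ht
    obtain ⟨htT, htw⟩ := mem_Fix.1 ht
    refine mem_Fix.2 ⟨conj_mem g t hg htT, ?_⟩
    have hτ := hcomm g hg
    have h1 : (g⁻¹ * w * g) * t = t * (g⁻¹ * w * g) := by
      calc (g⁻¹ * w * g) * t = w * ((w⁻¹ * (g⁻¹ * w * g)) * t) := by group
        _ = w * (t * (w⁻¹ * (g⁻¹ * w * g))) := by rw [h.commT hτ htT]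
        _ = (w * t) * (w⁻¹ * (g⁻¹ * w * g)) := by group
        _ = (t * w) * (w⁻¹ * (g⁻¹ * w * g)) := by rw [htw]
        _ = _ := by group
    calc w * (g * t * g⁻¹) = g * ((g⁻¹ * w * g) * t) * g⁻¹ := by group
      _ = g * (t * (g⁻¹ * w * g)) * g⁻¹ := by rw [h1]
      _ = _ := by group
  -- equivariance of the commutator map of `w`
  have hequi : ∀ g ∈ T1 P T, ∀ t ∈ T,
      w * (g * t * g⁻¹) * w⁻¹ * (g * t * g⁻¹) = g * (w * t * w⁻¹ * t) * g⁻¹ := by
    intro g hg t ht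
    have hτ := hcomm g hg
    have h1 : (g⁻¹ * w * g) * t * (g⁻¹ * w * g)⁻¹ = w * t * w⁻¹ := by
      calc (g⁻¹ * w * g) * t * (g⁻¹ * w * g)⁻¹
          = w * ((w⁻¹ * (g⁻¹ * w * g)) * t * (w⁻¹ * (g⁻¹ * w * g))⁻¹) * w⁻¹ := by group
        _ = _ := by rw [h.commT hτ ht, mul_inv_cancel_right]
    rw [← h1]; group
  -- a nontrivial element of `B`
  have hinjB : ∀ b ∈ B, ∀ b' ∈ B, (∀ hb : b ∈ T, ∀ hb' : b' ∈ T, h.delta hw ⟨b, hb⟩ = h.delta hw ⟨b', hb'⟩) → b = b' := by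
    intro b hb b' hb' e
    have e' := e (h.BT hb) (h.BT hb')
    have : h.delta hw (⟨b, h.BT hb⟩ * ⟨b', h.BT hb'⟩⁻¹) = 1 := by rw [map_mul, map_inv, e', mul_inv_cancel]
    rw [h.delta_eq_one hw] at this
    have h1 := h.fix_disjoint hw.1 hwT (mul_mem hb (inv_mem hb')) this
    exact mul_inv_eq_one.1 h1
  obtain ⟨b0, hb0, hb0'⟩ : ∃ b ∈ B, b ≠ 1 := B.bot_or_exists_ne_one.resolve_left fun e => by
    have := h.cB; rw [e, card_bot] at this; omega
  set K := T1 P T ⊓ centralizer (F : Set G) with hKdef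
  have hKF : ∀ k ∈ K, ∀ f ∈ F, k * f = f * k := fun k hk f hf =>
    ((mem_centralizer_iff.1 hk.2) f hf).symm
  have hδF : ∀ k (hk : k ∈ K), ∀ t ∈ T, k * t * k⁻¹ * t ∈ F := by
    intro k hk t ht
    have hm : k * t * k⁻¹ * t ∈ T := mul_mem (conj_mem k t hk.1 ht) ht
    refine (h.delta_eq_one hw ⟨_, hm⟩).1 ?_
    have hft : w * t * w⁻¹ * t ∈ F := hrF ▸ ⟨⟨t, ht⟩, rfl⟩
    have h1 : h.delta hw ⟨k * t * k⁻¹, conj_mem k t hk.1 ht⟩ = h.delta hw ⟨t, ht⟩ := by
      rw [delta_apply, delta_apply]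
      show w * (k * t * k⁻¹) * w⁻¹ * (k * t * k⁻¹) = _
      rw [hequi k hk.1 t ht, hKF k hk _ hft, mul_inv_cancel_right]
    have : (⟨k * t * k⁻¹ * t, hm⟩ : ↥T) = ⟨k * t * k⁻¹, conj_mem k t hk.1 ht⟩ * ⟨t, ht⟩ := rfl
    rw [this, map_mul, h1, ← map_mul, show (⟨t, ht⟩ : ↥T) * ⟨t, ht⟩ = 1 from Subtype.ext (h.sqT t ht), map_one]
  let eps : G → ↥K →* G := fun b => if hb : b ∈ T then
    { toFun := fun k => (k : G) * b * (k : G)⁻¹ * b
      map_one' := by simp [h.sqT b hb]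
      map_mul' := fun k l => by
        have hl := hδF l l.2 b hb
        have hc := hKF k k.2 _ hl
        have hk' : (k : G) * b * (k : G)⁻¹ * b ∈ T := mul_mem (conj_mem (k : G) b k.2.1 hb) hb
        show (k : G) * l * b * ((k : G) * l)⁻¹ * b = ((k : G) * b * (k : G)⁻¹ * b) * ((l : G) * b * (l : G)⁻¹ * b)
        calc (k : G) * l * b * ((k : G) * l)⁻¹ * b = (k : G) * ((l : G) * b * (l : G)⁻¹ * b) * b⁻¹ * (k : G)⁻¹ * b := by group
          _ = ((l : G) * b * (l : G)⁻¹ * b) * ((k : G) * b⁻¹ * (k : G)⁻¹ * b) := by rw [hc]; group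
          _ = ((l : G) * b * (l : G)⁻¹ * b) * ((k : G) * b * (k : G)⁻¹ * b) := by rw [h.inv_eq hb]
          _ = _ := h.commT (mem_Fix.1 hl).1 hk' }
    else 1
  have heps : ∀ b, b ∈ T → ∀ k : ↥K, eps b k = (k : G) * b * (k : G)⁻¹ * b := fun b hb k => by
    simp only [eps, dif_pos hb]; rfl
  have hrange : ∀ b ∈ B, b ≠ 1 → (eps b).range ≤ F ∧ 16 * Nat.card (eps b).range ≥ Nat.card ↥K := by
    intro b hb hb1
    refine ⟨?_, ?_⟩
    · rintro _ ⟨k, rfl⟩; rw [heps b (h.BT hb)]; exact hδF k k.2 b (h.BT hb)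
    · have h1 := (eps b).ker.card_mul_index
      rw [index_ker] at h1
      have h2 : Nat.card (eps b).ker ≤ 16 := by
        rw [← h.cT, Nat.card_congr ((eps b).ker.equivMapOfInjective K.subtype K.subtype_injective).toEquiv]
        refine card_le_of_le ?_
        rintro _ ⟨k, hk, rfl⟩
        rw [SetLike.mem_coe, MonoidHom.mem_ker, heps b (h.BT hb)] at hk
        refine h.cent b hb hb1 k k.2.1.1 ?_
        have := eq_inv_of_mul_eq_one_left hk
        rw [h.inv_eq (h.BT hb)] at this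
        exact mul_inv_eq_iff_eq_mul.1 this
      rw [← h1]
      exact Nat.mul_le_mul_right _ h2
  have hK64 : Nat.card ↥K ≤ 64 := by
    obtain ⟨h1, h2⟩ := hrange b0 hb0 hb0'
    have := card_le_of_le h1
    omega
  -- the action on the three involutions of `F`
  let X := {f : G // f ∈ F ∧ f ≠ 1}
  have hX3 : Nat.card X = 3 := by
    haveI := Fintype.ofFinite ↥F
    have h1 : Nat.card {f : ↥F // f ≠ 1} = 3 := by
      rw [Nat.card_eq_fintype_card, Fintype.card_subtype_compl, Fintype.card_subtype_eq,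
        ← Nat.card_eq_fintype_card, hcF]
    rw [← h1]
    exact Nat.card_congr
      { toFun := fun f => ⟨⟨f.1, f.2.1⟩, fun e => f.2.2 (congrArg Subtype.val e)⟩
        invFun := fun f => ⟨f.1.1, f.1.2, fun e => f.2 (Subtype.ext e)⟩ }
  letI : MulAction ↥(T1 P T) X :=
    { smul := fun g f => ⟨(g : G) * f.1 * (g : G)⁻¹, hFn g g.2 f.1 f.2.1, fun e => f.2.2 (by
        have := congrArg (fun y => (g : G)⁻¹ * y * (g : G)) e
        simpa [mul_assoc] using this)⟩
      one_smul := fun f => Subtype.ext (show ((1 : ↥(T1 P T)) : G) * f.1 * _⁻¹ = f.1 by simp)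
      mul_smul := fun g g' f => Subtype.ext
        (show ((g * g' : ↥(T1 P T)) : G) * f.1 * _⁻¹ = (g : G) * ((g' : G) * f.1 * (g' : G)⁻¹) * (g : G)⁻¹ by
          simp [mul_assoc]) }
  haveI : Fact (Nat.Prime 2) := ⟨Nat.prime_two⟩
  set ψ := MulAction.toPermHom ↥(T1 P T) X
  have hker : ψ.ker ≤ K.subgroupOf (T1 P T) := by
    intro g hg
    refine mem_subgroupOf.2 ⟨g.2, mem_centralizer_iff.2 fun f hf => ?_⟩
    rcases eq_or_ne f 1 with rfl | hf1
    · simp
    · have := congrArg Subtype.val (Equiv.ext_iff.1 (MonoidHom.mem_ker.1 hg) ⟨f, hf, hf1⟩)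
      change (g : G) * f * (g : G)⁻¹ = f at this
      exact (mul_inv_eq_iff_eq_mul.1 this).symm
  have hidx : Nat.card ↥(T1 P T) ≤ 2 * Nat.card ↥K := by
    obtain ⟨a, ha⟩ := (((h.pP.to_le (inf_le_left : T1 P T ≤ P)).to_subgroup (⊤ : Subgroup ↥(T1 P T))).map ψ).exists_card_eq
    have h6 : 2 ^ a ∣ 6 := by
      rw [← ha]
      have := card_subgroup_dvd_card (map ψ ⊤)
      rw [Nat.card_perm, hX3] at this
      exact this
    have h2 : 2 ^ a ≤ 2 := by
      have : a ≤ 1 := by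
        by_contra hlt
        have h4 : 4 ∣ 6 := dvd_trans (pow_dvd_pow 2 (show 2 ≤ a by omega)) h6
        omega
      exact le_trans (Nat.pow_le_pow_right two_pos this) (le_refl _)
    have h3 := ψ.ker.card_mul_index
    rw [index_ker, MonoidHom.range_eq_map] at h3
    have h4 : Nat.card ψ.ker ≤ Nat.card ↥K :=
      le_trans (card_le_of_le hker) (Nat.card_congr (subgroupOfEquivOfLe inf_le_left).toEquiv).le
    rw [← h3, mul_comm 2]
    exact Nat.mul_le_mul h4 (le_of_eq_of_le ha h2)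
  by_cases hK32 : Nat.card ↥K ≤ 32
  · omega
  -- now every element of `T1` centralises `F`
  suffices T1 P T ≤ K by
    have := card_le_of_le this; omega
  intro g hg
  obtain ⟨i, hi⟩ := (h.pP.to_le (inf_le_left : T1 P T ≤ P)) ⟨g, hg⟩
  haveI := Fintype.ofFinite X
  obtain ⟨⟨f, hf, hf1⟩, hfix⟩ := Equiv.Perm.exists_fixed_point_of_prime (p := 2) (n := i) (σ := ψ ⟨g, hg⟩)
    (by rw [← Nat.card_eq_fintype_card, hX3]; norm_num) (by rw [← map_pow]; exact (congrArg ψ hi).trans (map_one ψ))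
  have hgf : g * f * g⁻¹ = f := congrArg Subtype.val hfix
  -- preimage in `B`
  let δB : ↥B → ↥F := fun b => ⟨h.delta hw ⟨b, h.BT b.2⟩, hrF ▸ ⟨_, rfl⟩⟩
  have hbij : Function.Surjective δB := ((Nat.bijective_iff_injective_and_card δB).2
    ⟨fun b b' e => Subtype.ext (hinjB b b.2 b' b'.2 fun _ _ => congrArg Subtype.val e), by rw [h.cB, hcF]⟩).2
  obtain ⟨⟨b, hb⟩, hbf⟩ := hbij ⟨f, hf⟩
  have hbf' : w * b * w⁻¹ * b = f := congrArg Subtype.val hbf
  have hb1 : b ≠ 1 := by rintro rfl; simp at hbf'; exact hf1 hbf'.symm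
  have hgb : g * b * g⁻¹ ∈ T := conj_mem g b hg (h.BT hb)
  have hd : g * b * g⁻¹ * b ∈ F := by
    refine (h.delta_eq_one hw ⟨_, mul_mem hgb (h.BT hb)⟩).1 ?_
    have : (⟨g * b * g⁻¹ * b, mul_mem hgb (h.BT hb)⟩ : ↥T) = ⟨_, hgb⟩ * ⟨b, h.BT hb⟩ := rfl
    rw [this, map_mul, delta_apply, delta_apply]
    show w * (g * b * g⁻¹) * w⁻¹ * (g * b * g⁻¹) * (w * b * w⁻¹ * b) = 1
    rw [hequi g hg b (h.BT hb), hbf', hgf, h.sqT f (mem_Fix.1 hf).1]
  obtain ⟨hr1, hr2⟩ := hrange b hb hb1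
  obtain ⟨a, ha⟩ := h.card_two_pow (inf_le_left.trans inf_le_left : K ≤ P)
  have heq : (eps b).range = F := eq_of_le_of_card_ge hr1 (by
    have hK : Nat.card ↥K = 64 := by
      rw [ha] at hK32 hK64 ⊢
      have : 5 < a := by
        by_contra hlt
        have := Nat.pow_le_pow_right two_pos (show a ≤ 5 by omega)
        omega
      have := Nat.pow_le_pow_right two_pos (show 6 ≤ a by omega)
      omega
    omega)
  obtain ⟨⟨k, hk⟩, hkb⟩ : g * b * g⁻¹ * b ∈ (eps b).range := heq ▸ hd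
  rw [heps b (h.BT hb)] at hkb
  have hkb' : k * b * k⁻¹ = g * b * g⁻¹ := mul_right_cancel hkb
  have : k⁻¹ * g ∈ T := h.cent b hb hb1 _ (mul_mem (inv_mem hk.1.1) hg.1) (by
    calc k⁻¹ * g * b = k⁻¹ * (g * b * g⁻¹) * g := by group
      _ = k⁻¹ * (k * b * k⁻¹) * g := by rw [hkb']
      _ = _ := by group)
  have hTK : T ≤ K := le_inf h.T_le_T1 fun t ht => mem_centralizer_iff.2 fun f hf => h.commT (mem_Fix.1 hf).1 ht
  simpa using mul_mem hk (hTK this)

theorem good (h : Kl P T B) : Good P := by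
  classical
  intro K N hKP hNK hn hsq
  by_contra hlt
  rw [not_le] at hlt
  obtain ⟨a, ha⟩ := h.card_two_pow hKP
  obtain ⟨c, hc⟩ := h.card_two_pow (hNK.trans hKP)
  rw [ha, hc] at hlt
  have hca : c + 5 ≤ a := by
    have e : 16 * 2 ^ c = 2 ^ (c + 4) := by ring
    rw [e] at hlt
    exact (Nat.pow_lt_pow_iff_right (show 1 < 2 by norm_num)).1 hlt
  -- a subgroup of order 32 with trivial `N` is elementary abelian
  have helem : a ≤ 5 → (∀ k ∈ K, k * k = 1) ∧ ∀ k ∈ K, ∀ l ∈ K, k * l = l * k := by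
    intro ha5
    have hN : N = ⊥ := eq_bot_of_card_eq N (by rw [hc, show c = 0 by omega, pow_zero])
    have h2 : ∀ k ∈ K, k * k = 1 := fun k hk => by
      have := hsq k hk
      rwa [hN, mem_bot] at this
    refine ⟨h2, fun k hk l hl => ?_⟩
    have hi : ∀ y ∈ K, y⁻¹ = y := fun y hy => inv_eq_of_mul_eq_one_right (h2 y hy)
    have := hi _ (mul_mem hk hl)
    rw [mul_inv_rev, hi k hk, hi l hl] at this
    exact this.symm
  set N1 := T1 P T with hN1
  have hT1 : Nat.card ↥N1 ≤ 64 := h.card_T1_le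
  have hTN1 : T ≤ N1 := h.T_le_T1
  -- intersections with `T`
  have hinter : ∀ L : Subgroup G, L ≤ N1 → Nat.card ↥L * 16 ≤ 64 * Nat.card ↥(L ⊓ T) := by
    intro L hL
    have h1 := SfFree.card_sup_mul (H := T) (K := L) (hL.trans inf_le_right)
    rw [h.cT, inf_comm] at h1
    have h2 := card_le_of_le (sup_le hTN1 hL : T ⊔ L ≤ N1)
    calc Nat.card ↥L * 16 = 16 * Nat.card ↥L := mul_comm _ _
      _ = Nat.card ↥(T ⊔ L) * Nat.card ↥(L ⊓ T) := h1.symm
      _ ≤ 64 * Nat.card ↥(L ⊓ T) := Nat.mul_le_mul_right _ (h2.trans hT1)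
  -- one element moving all of `T`
  have hfull : ∀ w ∈ K, w ∈ N1 → w ∉ T → T ≤ K → 4 ≤ Nat.card ↥N := by
    intro w hw hwN hwT hTK
    refine le_trans (h.range_card_ge hwN hwT) (card_le_of_le ?_)
    rintro _ ⟨t, rfl⟩
    exact h.delta_mem hNK hn hsq hw (hTK t.2) t.2
  by_cases hP : P ≤ N1
  · have hK : K ≤ N1 := hKP.trans hP
    have hK64 : 2 ^ a ≤ 64 := ha ▸ (card_le_of_le hK).trans hT1
    have ha6 : a ≤ 6 := (Nat.pow_le_pow_iff_right (le_refl 2)).1 (by simpa using hK64)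
    rcases Nat.lt_or_ge a 6 with ha5 | ha6'
    · obtain ⟨-, hcomm⟩ := helem (by omega)
      have h1 := hinter K hK
      rw [ha, show a = 5 by omega] at h1
      have hKT : K ≤ T := fun k hk => h.self inf_le_right (by omega : 8 ≤ Nat.card ↥(K ⊓ T)) (hKP hk)
        fun s hs => hcomm k hk s hs.1
      have := card_le_of_le hKT
      rw [ha, h.cT, show a = 5 by omega] at this
      omega
    · have haeq : a = 6 := by omega
      subst haeq
      have hKeq : K = N1 := eq_of_le_of_card_ge hK (by rw [ha]; exact hT1)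
      obtain ⟨w, hw, hwT⟩ : ∃ w ∈ K, w ∉ T := SetLike.not_le_iff_exists.1 fun hle => by
        have := card_le_of_le hle
        rw [ha, h.cT] at this
        omega
      have h4 := hfull w hw (hKeq ▸ hw) hwT (hKeq ▸ hTN1)
      rw [hc] at h4
      have : c ≤ 1 := by omega
      have := Nat.pow_le_pow_right two_pos this
      omega
  -- `T1` is proper in `P`
  haveI : Fact (Nat.Prime 2) := ⟨Nat.prime_two⟩
  have hN1P : N1 < P := lt_of_le_not_ge inf_le_left hP
  obtain ⟨g, hgm, hgN⟩ := SetLike.exists_of_lt (Fusion.lt_inf_normalizer_of_isPGroup h.pP hN1P)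
  have hgP : g ∈ P := hgm.1
  have hgn : g ∈ normalizer (N1 : Set G) := hgm.2
  have cmap : ∀ (x : G) (H : Subgroup G), Nat.card ↥(H.map (MulAut.conj x).toMonoidHom) = Nat.card ↥H :=
    fun x H => card_map_of_injective (MulAut.conj x).injective
  set E := T.map (MulAut.conj g).toMonoidHom with hE
  have hcE : Nat.card ↥E = 16 := by rw [hE, cmap, h.cT]
  have hgT : g ∉ normalizer (T : Set G) := fun e => hgN ⟨hgP, e⟩
  have hET : E ≠ T := fun e => hgT (mem_normalizer_iff_map_conj_eq.2 e)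
  have hEN1 : E ≤ N1 := by
    rintro _ ⟨t, ht, rfl⟩
    exact (mem_normalizer_iff.1 hgn t).1 (hTN1 ht)
  have hEP : E ≤ P := hEN1.trans inf_le_left
  have hEcomm : ∀ x ∈ E, ∀ y ∈ E, x * y = y * x := by
    rintro _ ⟨x, hx, rfl⟩ _ ⟨y, hy, rfl⟩
    rw [← map_mul, h.commT hx hy, map_mul]
  have hEsq : ∀ x ∈ E, x * x = 1 := by
    rintro _ ⟨x, hx, rfl⟩
    rw [← map_mul, h.sqT x hx, map_one]
  have hEle : ∀ {H : Subgroup G}, E ≤ H → Nat.card ↥H ≤ 16 → E = H := fun hle hc16 =>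
    eq_of_le_of_card_ge hle (hc16.trans hcE.ge)
  have hF4 : Nat.card ↥(E ⊓ T) ≤ 4 := by
    by_contra hlt4
    obtain ⟨k, hk⟩ := h.card_two_pow (inf_le_right.trans h.TP : E ⊓ T ≤ P)
    have h8 : 8 ≤ Nat.card ↥(E ⊓ T) := by
      rw [hk] at hlt4 ⊢
      have : 3 ≤ k := by
        by_contra hk3
        have := Nat.pow_le_pow_right two_pos (show k ≤ 2 by omega)
        omega
      exact le_trans (by norm_num) (Nat.pow_le_pow_right two_pos this)
    exact hET (hEle (fun y hy => h.self inf_le_right h8 (hEP hy) fun s hs => hEcomm y hy s hs.1) h.cT.le)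
  have hEn : E ≤ normalizer (T : Set G) := hEN1.trans inf_le_right
  obtain ⟨hN1sup, hN1card, hFc⟩ : T ⊔ E = N1 ∧ Nat.card ↥N1 = 64 ∧ Nat.card ↥(E ⊓ T) = 4 := by
    have h1 := SfFree.card_sup_mul (H := T) (K := E) hEn
    rw [h.cT, hcE, inf_comm] at h1
    have h2 := card_le_of_le (sup_le hTN1 hEN1 : T ⊔ E ≤ N1)
    have h3 : 64 ≤ Nat.card ↥(T ⊔ E) := by nlinarith
    refine ⟨eq_of_le_of_card_ge (sup_le hTN1 hEN1) (by omega), by omega, ?_⟩
    have h4 : Nat.card ↥(T ⊔ E) = 64 := by omega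
    rw [h4] at h1
    omega
  -- elements of `E` outside `T`
  have hfixE : ∀ e ∈ E, e ∉ T → Fix T e = E ⊓ T := fun e he heT =>
    (eq_of_le_of_card_ge (fun s (hs : s ∈ E ⊓ T) => mem_Fix.2 ⟨hs.2, hEcomm e he s hs.1⟩)
      ((h.fix_card_le (hEP he) heT).trans hFc.ge)).symm
  have hdec : ∀ x ∈ N1, ∃ t ∈ T, ∃ e ∈ E, x = t * e := by
    intro x hx
    rw [← hN1sup, sup_comm] at hx
    have : x ∈ (↑(E ⊔ T) : Set G) := hx
    rw [coe_mul_of_left_le_normalizer_right E T hEn] at this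
    obtain ⟨e, he, t, ht, rfl⟩ := this
    exact ⟨e * t * e⁻¹, conj_mem e t (hEN1 he) ht, e, he, by group⟩
  have hwsq : ∀ x ∈ N1, x * x ∈ T := by
    intro x hx
    obtain ⟨t, ht, e, he, rfl⟩ := hdec x hx
    have e1 : t * e * (t * e) = t * (e * t * e⁻¹) * (e * e) := by group
    rw [e1, hEsq e he, mul_one]
    exact mul_mem ht (conj_mem e t (hEN1 he) ht)
  have hfix : ∀ x ∈ N1, x ∉ T → Fix T x = E ⊓ T := by
    intro x hx hxT
    obtain ⟨t, ht, e, he, rfl⟩ := hdec x hx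
    have heT : e ∉ T := fun e' => hxT (mul_mem ht e')
    refine eq_of_le_of_card_ge ?_ (hFc.le.trans (h.inv_fix hx hxT (hwsq _ hx)).2.ge)
    rw [← hfixE e he heT]
    intro s hs
    obtain ⟨hsT, hs'⟩ := mem_Fix.1 hs
    refine mem_Fix.2 ⟨hsT, mul_left_cancel (a := t) ?_⟩
    rw [← mul_assoc, hs', ← mul_assoc, ← mul_assoc, h.commT ht hsT]
  have hinv16 : ∀ x ∈ N1, x * x = 1 → x ∈ T ∨ x ∈ E := by
    intro x hx hx2
    obtain ⟨t, ht, e, he, rfl⟩ := hdec x hx
    by_cases heT : e ∈ T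
    · exact Or.inl (mul_mem ht heT)
    · right
      refine mul_mem ?_ he
      have hf : t ∈ Fix T e := by
        refine mem_Fix.2 ⟨ht, ?_⟩
        calc e * t = t⁻¹ * (t * e * (t * e)) * e⁻¹ := by group
          _ = t * e := by rw [hx2, h.inv_eq ht, inv_eq_of_mul_eq_one_right (hEsq e he), mul_one]
      rw [hfixE e he heT] at hf
      exact hf.1
  have hsub : ∀ X : Subgroup G, X ≤ N1 → (∀ x ∈ X, x * x = 1) → X ≤ T ∨ X ≤ E := by
    intro X hX h2
    by_contra hcon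
    rw [not_or, SetLike.not_le_iff_exists, SetLike.not_le_iff_exists] at hcon
    obtain ⟨⟨x, hx, hxT⟩, ⟨y, hy, hyE⟩⟩ := hcon
    have hxE := (hinv16 x (hX hx) (h2 x hx)).resolve_left hxT
    have hyT := (hinv16 y (hX hy) (h2 y hy)).resolve_right hyE
    rcases hinv16 (x * y) (hX (mul_mem hx hy)) (h2 _ (mul_mem hx hy)) with hm | hm
    · exact hxT ((mul_mem_cancel_right hyT).1 hm)
    · exact hyE ((mul_mem_cancel_left hxE).1 hm)
  have selfE : ∀ {S : Subgroup G}, S ≤ E → 8 ≤ Nat.card ↥S → ∀ y ∈ P, (∀ s ∈ S, y * s = s * y) → y ∈ E := by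
    intro S hS h8 y hy hc'
    have h1 : g⁻¹ * y * g ∈ T := by
      refine h.self (S := S.map (MulAut.conj g⁻¹).toMonoidHom) ?_ (by rw [cmap]; exact h8)
        (mul_mem (mul_mem (P.inv_mem hgP) hy) hgP) ?_
      · rintro _ ⟨s, hs, rfl⟩
        obtain ⟨t, ht, rfl⟩ := hS hs
        simpa [mul_assoc] using ht
      · rintro _ ⟨s, hs, rfl⟩
        have := hc' s hs
        show g⁻¹ * y * g * (g⁻¹ * s * g⁻¹⁻¹) = g⁻¹ * s * g⁻¹⁻¹ * (g⁻¹ * y * g)
        calc g⁻¹ * y * g * (g⁻¹ * s * g⁻¹⁻¹) = g⁻¹ * (y * s) * g := by group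
          _ = g⁻¹ * (s * y) * g := by rw [this]
          _ = _ := by group
    exact ⟨g⁻¹ * y * g, h1, by simp [mul_assoc]⟩
  set N2 := P ⊓ normalizer (N1 : Set G) with hN2
  have hmove : ∀ x ∈ P, x ∈ normalizer (N1 : Set G) → x ∉ N1 → T.map (MulAut.conj x).toMonoidHom = E := by
    intro x hxP hxn hx1
    have hxT : x ∉ normalizer (T : Set G) := fun e => hx1 ⟨hxP, e⟩
    have hle : T.map (MulAut.conj x).toMonoidHom ≤ N1 := by
      rintro _ ⟨t, ht, rfl⟩
      exact (mem_normalizer_iff.1 hxn t).1 (hTN1 ht)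
    rcases hsub _ hle (by rintro _ ⟨t, ht, rfl⟩; rw [← map_mul, h.sqT t ht, map_one]) with h1 | h1
    · exact absurd (mem_normalizer_iff_map_conj_eq.2
        (eq_of_le_of_card_ge h1 (cmap x T).ge)) hxT
    · exact eq_of_le_of_card_ge h1 (by rw [cmap x T, hcE, h.cT])
  have hN2cases : ∀ x ∈ N2, x ∈ N1 ∨ g⁻¹ * x ∈ N1 := by
    intro x hx
    by_cases hx1 : x ∈ N1
    · exact Or.inl hx1
    · refine Or.inr ⟨mul_mem (P.inv_mem hgP) hx.1, mem_normalizer_iff_map_conj_eq.2 ?_⟩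
      have h1 := hmove x hx.1 hx.2 hx1
      have : (MulAut.conj (g⁻¹ * x)).toMonoidHom = ((MulAut.conj g⁻¹).toMonoidHom).comp (MulAut.conj x).toMonoidHom := by
        ext y; simp [mul_assoc]
      show T.map (MulAut.conj (g⁻¹ * x)).toMonoidHom = T
      rw [this, ← map_map, h1, hE, map_map]
      convert map_id T using 2
      ext y; simp [mul_assoc]
  have hN2int : ∀ L : Subgroup G, L ≤ N2 → Nat.card ↥L ≤ 2 * Nat.card ↥(L ⊓ N1) := by
    intro L hL
    by_cases hsubL : L ≤ N1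
    · rw [inf_eq_left.2 hsubL]; omega
    obtain ⟨x, hx, hx1⟩ := SetLike.not_le_iff_exists.1 hsubL
    have hgx := (hN2cases x (hL hx)).resolve_left hx1
    have hmem : ∀ y : ↥L, (y : G) ∈ L ⊓ N1 ∨ x⁻¹ * y ∈ L ⊓ N1 := fun y => by
      rcases hN2cases y (hL y.2) with h1 | h1
      · exact Or.inl ⟨y.2, h1⟩
      · refine Or.inr ⟨mul_mem (L.inv_mem hx) y.2, ?_⟩
        have := mul_mem (inv_mem hgx) h1
        simpa [mul_assoc] using this
    let f : ↥L → ↥(L ⊓ N1) ⊕ ↥(L ⊓ N1) := fun y =>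
      if hy : (y : G) ∈ L ⊓ N1 then Sum.inl ⟨y, hy⟩ else Sum.inr ⟨x⁻¹ * y, (hmem y).resolve_left hy⟩
    have hf : Function.Injective f := by
      intro y y' e
      simp only [f] at e
      split_ifs at e
      · exact Subtype.ext (congrArg Subtype.val (Sum.inl.inj e) :)
      · exact Subtype.ext (mul_left_cancel (congrArg Subtype.val (Sum.inr.inj e) :))
    have := Nat.card_le_card_of_injective f hf
    rw [Nat.card_sum] at this
    omega
  have h16 : ∀ X : Subgroup G, X ≤ N2 → (∀ x ∈ X, x * x = 1) → 16 ≤ Nat.card ↥X → X ≤ T ∨ X ≤ E := by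
    intro X hX h2 hX16
    have hcX : ∀ x ∈ X, ∀ y ∈ X, x * y = y * x := fun x hx y hy => by
      have hi : ∀ z ∈ X, z⁻¹ = z := fun z hz => inv_eq_of_mul_eq_one_right (h2 z hz)
      have := hi _ (mul_mem hx hy)
      rw [mul_inv_rev, hi x hx, hi y hy] at this
      exact this.symm
    have h8 : 8 ≤ Nat.card ↥(X ⊓ N1) := by have := hN2int X hX; omega
    rcases hsub (X ⊓ N1) inf_le_right (fun x hx => h2 x hx.1) with h1 | h1
    · exact Or.inl fun y hy => h.self h1 h8 (hX hy).1 fun s hs => hcX y hy s hs.1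
    · exact Or.inr fun y hy => selfE h1 h8 y (hX hy).1 fun s hs => hcX y hy s hs.1
  have hTN2 : T ≤ N2 := le_inf h.TP (hTN1.trans le_normalizer)
  have hEN2 : E ≤ N2 := le_inf hEP (hEN1.trans le_normalizer)
  have hP2 : N2 = P := by
    by_contra hne
    obtain ⟨x, hxm, hxN⟩ := SetLike.exists_of_lt
      (Fusion.lt_inf_normalizer_of_isPGroup h.pP (lt_of_le_of_ne inf_le_left hne))
    have key : ∀ H : Subgroup G, H ≤ N2 → (∀ y ∈ H, y * y = 1) → Nat.card ↥H = 16 →
        H.map (MulAut.conj x).toMonoidHom ≤ N1 := by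
      intro H hH h2 h16'
      rcases h16 (H.map (MulAut.conj x).toMonoidHom)
        (by rintro _ ⟨y, hy, rfl⟩; exact (mem_normalizer_iff.1 hxm.2 y).1 (hH hy))
        (by rintro _ ⟨y, hy, rfl⟩; rw [← map_mul, h2 y hy, map_one])
        (by rw [cmap, h16']) with h1 | h1
      · exact h1.trans hTN1
      · exact h1.trans hEN1
    have hmap : N1.map (MulAut.conj x).toMonoidHom ≤ N1 := by
      rw [← hN1sup, Subgroup.map_sup, hN1sup]
      exact sup_le (key T hTN2 h.sqT h.cT) (key E hEN2 hEsq hcE)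
    exact hxN ⟨hxm.1, mem_normalizer_iff_map_conj_eq.2 (eq_of_le_of_card_ge hmap (cmap x N1).ge)⟩
  have hK2 : K ≤ N2 := hP2 ▸ hKP
  have hcard2 : Nat.card ↥K ≤ 128 := by
    have := hN2int K hK2
    have h64 := card_le_of_le (inf_le_right : K ⊓ N1 ≤ N1)
    omega
  have ha7 : a ≤ 7 := (Nat.pow_le_pow_iff_right (le_refl 2)).1 (by rw [← ha]; simpa using hcard2)
  obtain rfl | rfl | rfl : a = 5 ∨ a = 6 ∨ a = 7 := by omega
  · obtain ⟨h2, -⟩ := helem le_rfl
    rcases h16 K hK2 h2 (by rw [ha]; norm_num) with h1 | h1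
    · have := card_le_of_le h1; rw [ha, h.cT] at this; omega
    · have := card_le_of_le h1; rw [ha, hcE] at this; omega
  · have hNc : Nat.card ↥N ≤ 2 := by
      rw [hc]; exact le_trans (Nat.pow_le_pow_right two_pos (show c ≤ 1 by omega)) (le_refl _)
    set K0 := K ⊓ N1 with hK0
    have hK032 : 32 ≤ Nat.card ↥K0 := by
      have := hN2int K hK2; rw [ha] at this; rw [hK0]; omega
    have hK0T : 8 ≤ Nat.card ↥(K0 ⊓ T) := by
      have := hinter K0 inf_le_right; omega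
    by_cases hTK : T ≤ K
    · obtain ⟨w, hw, hwT⟩ : ∃ w ∈ K0, w ∉ T := SetLike.not_le_iff_exists.1 fun hle => by
        have := card_le_of_le hle; rw [h.cT] at this; omega
      have := hfull w hw.1 hw.2 hwT hTK
      omega
    · have h8 : Nat.card ↥(K0 ⊓ T) = 8 := by
        obtain ⟨k, hk⟩ := h.card_two_pow (inf_le_right.trans h.TP : K0 ⊓ T ≤ P)
        have hlt16 : Nat.card ↥(K0 ⊓ T) < 16 := by
          by_contra hge
          refine hTK ?_
          have heq : K0 ⊓ T = T := eq_of_le_of_card_ge inf_le_right (by rw [h.cT]; omega)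
          exact heq ▸ (inf_le_left.trans inf_le_left : K0 ⊓ T ≤ K)
        rw [hk] at hK0T hlt16 ⊢
        have h3 : 3 ≤ k := by
          by_contra hk3
          have := Nat.pow_le_pow_right two_pos (show k ≤ 2 by omega)
          omega
        have h4 : k < 4 := (Nat.pow_lt_pow_iff_right (show 1 < 2 by norm_num)).1 (by simpa using hlt16)
        rw [show k = 3 by omega]; norm_num
      obtain ⟨v, hv, hvF⟩ : ∃ v ∈ K0 ⊓ T, v ∉ E ⊓ T := SetLike.not_le_iff_exists.1 fun hle => by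
        have := card_le_of_le hle; omega
      have hδ : ∀ k ∈ N1, k * v * k⁻¹ * v ∈ E ⊓ T := by
        intro k hk
        by_cases hkT : k ∈ T
        · rw [h.commT hkT hv.2, mul_inv_cancel_right, h.sqT v hv.2]; exact one_mem _
        · rw [← hfix k hk hkT, ← (h.inv_fix hk hkT (hwsq k hk)).1]
          exact ⟨⟨v, hv.2⟩, rfl⟩
      have hcentF : ∀ k ∈ N1, ∀ f ∈ E ⊓ T, k * f = f * k := by
        intro k hk f hf
        by_cases hkT : k ∈ T
        · exact h.commT hkT hf.2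
        · rw [← hfix k hk hkT] at hf; exact (mem_Fix.1 hf).2
      let ev : ↥K0 →* G :=
        { toFun := fun k => (k : G) * v * (k : G)⁻¹ * v
          map_one' := by simp [h.sqT v hv.2]
          map_mul' := fun k l => by
            show (k : G) * l * v * ((k : G) * l)⁻¹ * v = ((k : G) * v * (k : G)⁻¹ * v) * ((l : G) * v * (l : G)⁻¹ * v)
            have hl := hδ l l.2.2
            have hk' := hδ k k.2.2
            calc (k : G) * l * v * ((k : G) * l)⁻¹ * v
                = (k : G) * ((l : G) * v * (l : G)⁻¹ * v) * v⁻¹ * (k : G)⁻¹ * v := by group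
              _ = ((l : G) * v * (l : G)⁻¹ * v) * ((k : G) * v⁻¹ * (k : G)⁻¹ * v) := by
                rw [hcentF k k.2.2 _ hl]; group
              _ = ((l : G) * v * (l : G)⁻¹ * v) * ((k : G) * v * (k : G)⁻¹ * v) := by rw [h.inv_eq hv.2]
              _ = _ := h.commT hl.2 hk'.2 }
      have hker : Nat.card ev.ker ≤ 8 := by
        rw [← h8, Nat.card_congr (ev.ker.equivMapOfInjective K0.subtype K0.subtype_injective).toEquiv]
        refine card_le_of_le ?_
        rintro _ ⟨k, hk, rfl⟩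
        refine ⟨k.2, ?_⟩
        by_contra hkT
        apply hvF
        rw [← hfix k k.2.2 hkT]
        refine mem_Fix.2 ⟨hv.2, ?_⟩
        have he : (k : G) * v * (k : G)⁻¹ * v = 1 := hk
        have := eq_inv_of_mul_eq_one_left he
        rw [h.inv_eq hv.2] at this
        exact mul_inv_eq_iff_eq_mul.1 this
      have hrN : Nat.card ev.range ≤ Nat.card ↥N := card_le_of_le (by
        rintro _ ⟨k, rfl⟩
        exact h.delta_mem hNK hn hsq k.2.1 hv.1.1 hv.2)
      have h1 := ev.ker.card_mul_index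
      rw [index_ker] at h1
      have := Nat.mul_le_mul hker (hrN.trans hNc)
      omega
  · have hNc : Nat.card ↥N ≤ 4 := by
      rw [hc]; exact le_trans (Nat.pow_le_pow_right two_pos (show c ≤ 2 by omega)) (le_refl _)
    have hNfull : N1 ≤ K ∧ g ∈ K := by
      have hN1N2 : N1 ≤ N2 := le_inf inf_le_left le_normalizer
      have h1 : Nat.card ↥N2 ≤ 128 := by
        have := hN2int N2 le_rfl
        rw [inf_eq_right.2 hN1N2, hN1card] at this
        omega
      have hKeq : K = N2 := eq_of_le_of_card_ge hK2 (by rw [ha]; omega)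
      rw [hKeq]
      exact ⟨hN1N2, hgP, hgn⟩
    obtain ⟨w, hw, hwT⟩ : ∃ w ∈ E, w ∉ T := SetLike.not_le_iff_exists.1 fun hle =>
      hET (hEle hle h.cT.le)
    have hle : (h.delta (hEN1 hw)).range ≤ N := by
      rintro _ ⟨t, rfl⟩
      exact h.delta_mem hNK hn hsq (hNfull.1 (hEN1 hw)) (hNfull.1 (hTN1 t.2)) t.2
    have heq : (h.delta (hEN1 hw)).range = N :=
      eq_of_le_of_card_ge hle (hNc.trans (h.range_card_ge (hEN1 hw) hwT))
    refine hgT (mem_normalizer_iff_map_conj_eq.2 (eq_of_le_of_card_ge ?_ (cmap g T).ge))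
    rintro _ ⟨t, ht, rfl⟩
    have h1 := h.delta_mem hNK hn hsq hNfull.2 (hNfull.1 (hTN1 ht)) ht
    rw [← heq] at h1
    exact (mul_mem_cancel_right ht).1 (h.range_le _ h1)

end Kl

end Cfsg.Agent.SecRankFour
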